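import Groth.Agent.Lib.Helper12.Dev9

/-! # Finite surjective morphisms: a coherent module whose direct image lives on a given
integral closed subscheme -/

set_option autoImplicit false
universe u
open CategoryTheory CategoryTheory.Limits AlgebraicGeometry TopologicalSpace Opposite
open Groth.Agent.Lib.Helper29.QCoh
open Groth.Agent.Lib.Helper12.H12ModGlue Groth.Agent.Lib.Helper12.H12Dev

namespace Groth.Agent.Lib.Helper2.FinSurj

section Stalk
variable {W Z : Scheme.{u}} (g : W ⟶ Z)

theorem nontrivial_stalk_push_unit [Surjective g] (z : Z) :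
    Nontrivial (((Scheme.Modules.pushforward g).obj (unitM W)).presheaf.stalk z) := by
  refine ⟨⟨((Scheme.Modules.pushforward g).obj (unitM W)).presheaf.germ ⊤ z trivial
    (show Γ((Scheme.Modules.pushforward g).obj (unitM W), ⊤) from
      toUnit (1 : Γ(W, g ⁻¹ᵁ ⊤))), 0, fun h => ?_⟩⟩
  obtain ⟨V, hV, hzV, h0⟩ := exists_res_eq_zero_of_germ_eq_zero
    ((Scheme.Modules.pushforward g).obj (unitM W)) (U := ⊤) z trivial _ h
  have h1 : (1 : Γ(W, g ⁻¹ᵁ V)) = 0 := by
    have h2 := res_toUnit_one (X := W) (g.preimage_mono hV)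
    have h3 : res (unitM W) (g.preimage_mono hV) (toUnit (1 : Γ(W, g ⁻¹ᵁ ⊤))) = 0 := h0
    rw [h2] at h3
    exact h3
  obtain ⟨w, hw⟩ := g.surjective z
  haveI : Nonempty (g ⁻¹ᵁ V) := ⟨⟨w, by
    change g w ∈ V
    rw [hw]
    exact hzV⟩⟩
  exact one_ne_zero h1

theorem support_push_unit [Surjective g] [IsAffineHom g] :
    CohB1.support ((Scheme.Modules.pushforward g).obj (unitM W)) = Set.univ := by
  ext z
  simp only [Set.mem_univ, iff_true]
  rw [mem_support_iff]
  exact nontrivial_stalk_push_unit g z

end Stalk


section Ker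
variable {Z X : Scheme.{u}} (i : Z ⟶ X) [IsClosedImmersion i] [IsReduced Z]

theorem ker_eq_vanishingIdeal :
    i.ker = Scheme.IdealSheafData.vanishingIdeal
      ⟨Set.range i, i.isClosedEmbedding.isClosed_range⟩ := by
  have h1 := Scheme.IdealSheafData.map_vanishingIdeal i ⊤
  rw [Scheme.IdealSheafData.vanishingIdeal_top, Scheme.nilradical_eq_bot,
    Scheme.IdealSheafData.map_bot] at h1
  rw [h1]
  congr 1
  ext x
  simp only [Closeds.coe_closure, Closeds.coe_top, Set.image_univ]
  rw [i.isClosedEmbedding.isClosed_range.closure_eq]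
  rfl

theorem killedByIdeal_pushforward (N : Z.Modules) :
    ClSub.KilledByIdeal (Scheme.IdealSheafData.vanishingIdeal
      ⟨Set.range i, i.isClosedEmbedding.isClosed_range⟩)
      ((Scheme.Modules.pushforward i).obj N) := by
  intro U a ha m
  rw [← ker_eq_vanishingIdeal i, Scheme.Hom.ker_apply] at ha
  exact pushforward_killed i N U.1 a ha m

end Ker


section Main
variable {Y X : Scheme.{u}} (f : Y ⟶ X) [IsFinite f] [Surjective f] [IsLocallyNoetherian X]
  (Z : Scheme.{u}) (i : Z ⟶ X) [IsClosedImmersion i] [IsIntegral Z]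

open IsLocalRing in
theorem exists_coh_push_support :
    ∃ F : Y.Modules, Coh.IsCoh F ∧
      CohB1.support ((Scheme.Modules.pushforward f).obj F) = Set.range ⇑i ∧
      ∀ a ∈ maximalIdeal (X.presheaf.stalk (i (genericPoint Z))),
        ∀ m : ((Scheme.Modules.pushforward f).obj F).presheaf.stalk (i (genericPoint Z)),
          a • m = 0 := by
  let W := pullback f i
  let j : W ⟶ Y := pullback.fst f i
  let g : W ⟶ Z := pullback.snd f i
  have hcoh := isCoh_unitM W
  haveI := hcoh.1
  haveI := hcoh.2
  let F : Y.Modules := (Scheme.Modules.pushforward j).obj (unitM W)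
  let N : Z.Modules := (Scheme.Modules.pushforward g).obj (unitM W)
  haveI hFq : F.IsQuasicoherent := isQuasicoherent_pushforward_of_isAffineHom j _
  haveI hFf : F.IsFiniteType := isFiniteType_pushforward_of_isFinite j _
  haveI hNq : N.IsQuasicoherent := isQuasicoherent_pushforward_of_isAffineHom g _
  let e : (Scheme.Modules.pushforward f).obj F ≅ (Scheme.Modules.pushforward i).obj N :=
    (Scheme.Modules.pushforwardComp j f).app (unitM W) ≪≫
      (Scheme.Modules.pushforwardCongr (pullback.condition (f := f) (g := i))).app (unitM W) ≪≫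
      ((Scheme.Modules.pushforwardComp g i).app (unitM W)).symm
  refine ⟨F, ⟨hFq, hFf⟩, ?_, ?_⟩
  · rw [support_eq_of_iso e, Groth.Agent.Helper19.ClImmSupp.support_pushforward i N,
      support_push_unit g, Set.image_univ]
  · intro a ha m
    have hy : closure {i (genericPoint Z)} = Set.range i := by
      have h1 := i.isClosedEmbedding.closure_image_eq ({genericPoint Z} : Set Z)
      rw [Set.image_singleton] at h1
      have h2 : closure {genericPoint Z} = Set.univ := genericPoint_spec Z
      rw [h1, h2, Set.image_univ]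
    haveI : ((Scheme.Modules.pushforward i).obj N).IsQuasicoherent :=
      isQuasicoherent_pushforward_of_isAffineHom i N
    have h0 := smul_stalk_eq_zero_of_killedByIdeal ((Scheme.Modules.pushforward i).obj N)
      (Set.range i) i.isClosedEmbedding.isClosed_range (i (genericPoint Z)) hy
      (killedByIdeal_pushforward i N) a ha
      (RefHull.stalkMapₗ e.hom (i (genericPoint Z)) m)
    have hinj : Function.Injective (RefHull.stalkMapₗ e.hom (i (genericPoint Z))) :=
      (mono_iff_stalkMap_injective e.hom).mp inferInstance _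
    apply hinj
    rw [map_smul, h0, map_zero]

end Main

end Groth.Agent.Lib.Helper2.FinSurj
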